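import Cfsg.Agent.Schur.HS.Base

set_option autoImplicit false
set_option maxRecDepth 100000

namespace Cfsg.Agent.Schur.HS
open Cfsg.Agent.Comp Cfsg.Agent.Schur

namespace P3

noncomputable def x0 : Net :=
(Net.cons (nat_lit 0xf393c7f12795ff931ed118) (nat_lit 88)
(Net.cons (nat_lit 0x70943a5f86000000000000ec0c9490c6a) (nat_lit 44)
(Net.cons (nat_lit 0x22b5e200000026148000002c041c000001bc44a) (nat_lit 22)
(Net.cons (nat_lit 0xa00005cc0009c8003cc0004a800490001e6800124) (nat_lit 11)
(Net.cons (nat_lit 0x260200001b00e0700a8150300700000802401400812) (nat_lit 6)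
(Net.cons (nat_lit 0x8308200c0004000400c4100200000c4108210600c0) (nat_lit 3)
(Net.cons (nat_lit 0x8000420000080120008480021200004008200024040) (nat_lit 1)
(Net.cons (nat_lit 0x10424841090120240010921242484909010420849082) (nat_lit 1)
(Net.cons (nat_lit 0x1212020041410024208084800212024049282524248) (nat_lit 1)
(Net.cons (nat_lit 0x182010628c1100008620041043046104518c11c220c0) (nat_lit 3)
(Net.cons (nat_lit 0x1c0400a00a02c0300981b0020640c81500e06007814) (nat_lit 6)
(Net.cons (nat_lit 0x15140057a0013cc006b3000b1c002cd0015b400778) (nat_lit 11)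
(Net.cons (nat_lit 0x1654a90000007d12b00000383e0c0000010497a) (nat_lit 22)
(Net.cons (nat_lit 0x59904e8f24100000000000bde9b502c7a) (nat_lit 44)
(Net.cons (nat_lit 0x2ae50784bc19feeda8cf88) (nat_lit 88)
Net.nil)))))))))))))))

noncomputable def x1 : Net :=
(Net.cons (nat_lit 0xede1d6b6025bf7ff3d5128) (nat_lit 88)
(Net.cons (nat_lit 0x4178040c2a00000000000010c71577244) (nat_lit 44)
(Net.cons (nat_lit 0x3d6fc20000035f950000001c578e000003bb208) (nat_lit 22)
(Net.cons (nat_lit 0x1028004640006a0000fa000928003d0000e1000310) (nat_lit 11)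
(Net.cons (nat_lit 0xc028090140380680a00103c01c0480000401001801) (nat_lit 6)
(Net.cons (nat_lit 0x100110000c4100218400c01042006108210020841000) (nat_lit 3)
(Net.cons (nat_lit 0x1202404808090120040010020200400808000400008) (nat_lit 1)
(Net.cons (nat_lit 0x2424809090120248480820240484909012400848090) (nat_lit 1)
(Net.cons (nat_lit 0x801210404101202100a094008010420000010120808) (nat_lit 1)
(Net.cons (nat_lit 0x822186104508e00c030c710421c030c118e30042081) (nat_lit 3)
(Net.cons (nat_lit 0xa01c0a00b0200380601a03001c0a01f00e0600a805) (nat_lit 6)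
(Net.cons (nat_lit 0x162c0004b000bd40054e00096c007d400085400554) (nat_lit 11)
(Net.cons (nat_lit 0x25d6770000004febd00000336394000002d4d28) (nat_lit 22)
(Net.cons (nat_lit 0x9dc24a0084f000000000005858d541f04) (nat_lit 44)
(Net.cons (nat_lit 0x8882dbef9d7e7eb1f7d128) (nat_lit 88)
Net.nil)))))))))))))))

noncomputable def x2 : Net :=
(Net.cons (nat_lit 0x7396fae9d3a437cb9602b4) (nat_lit 88)
(Net.cons (nat_lit 0x38c5577056c000000000007d044b72d84) (nat_lit 44)
(Net.cons (nat_lit 0x31f220000001fb19600000225bc00000039f3d0) (nat_lit 22)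
(Net.cons (nat_lit 0x1950004e4001340007bc000560004160008b0002fa) (nat_lit 11)
(Net.cons (nat_lit 0x120400a01602c0700b8100080480700401a0000e013) (nat_lit 6)
(Net.cons (nat_lit 0x41084000018c000230c00000102300400000040042) (nat_lit 3)
(Net.cons (nat_lit 0x212020800082000008410021242000008210400008) (nat_lit 1)
(Net.cons (nat_lit 0x424849012104200410921042484108212420848092) (nat_lit 1)
(Net.cons (nat_lit 0x40002400049000901002480901200424000012020041) (nat_lit 1)
(Net.cons (nat_lit 0x8a10c030420843142280218e3006384410a20060047) (nat_lit 3)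
(Net.cons (nat_lit 0x403c0200a01a048088130140640f00200a04400805) (nat_lit 6)
(Net.cons (nat_lit 0x1650006300017600068e0012d4007a90012080045e) (nat_lit 11)
(Net.cons (nat_lit 0x9afb000003f7cb80000021f37f000002b4124) (nat_lit 22)
(Net.cons (nat_lit 0x700a80e214600000000000fa5eb5796f0) (nat_lit 44)
(Net.cons (nat_lit 0x60fffbfe2f2d8e5bdd064c) (nat_lit 88)
Net.nil)))))))))))))))

noncomputable def R0 : List Net := [x0, x1, x2]

noncomputable def R : List Net := R0 ++ Cfsg.Agent.SchurG.HS.T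

theorem ok : TOK 176 R := tok_append (TOK_of_ok (by decide +kernel)) Cfsg.Agent.SchurG.HS.ok

def D : List (List Nat × List Nat) :=
  [([0], [7, 3, 7, 6, 3, 4, 5, 3]),
   ([1], [3, 6]),
   ([2], [7, 4, 3, 7, 4, 3, 6, 3, 4, 5, 4])]

theorem defs : ∀ e ∈ D, ev (sig R) e.1 = ev (sig R) e.2 :=
  eq_of_eqsP ok (by norm_num) (show eqsP (nat_lit 176) (nat_lit 8) (nat_lit 0) (nat_lit 8) R D = true by decide +kernel)

def T : List (List (List Nat)) :=
  [[[]],
   [[1], []]]

def Y : List (Nat × List Nat × List Nat) :=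
  [(2, [0], [0, 0, 1, 1]),
   (2, [1], [1])]

theorem eqs : ∀ e ∈ (pcEqs 3 2 T ++ stEqs Y), ev (sig R) e.1 = ev (sig R) e.2 :=
  eq_of_eqsP ok (by norm_num) (show eqsP (nat_lit 176) (nat_lit 8) (nat_lit 0) (nat_lit 8) R (pcEqs 3 2 T ++ stEqs Y) = true by decide +kernel)

def D2 : List (List Nat × List Nat) :=
  []

theorem allIn : AllIn Cfsg.Agent.SchurG.HS.phi.range R :=
  AllIn.ext Cfsg.Agent.Schur.HS.allIn (o := 3) rfl (eqs_append defs (eqs_swap (D := D2) eqs (by decide +kernel))) (by decide +kernel)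

def lv : List (List (List Nat) × List Nat × Nat × Nat) :=
  [([[0]], [0, 0], 2, 3),
   ([[1]], [0, 0], 3, 3)]

theorem low : 3 ^ 2 ≤ Nat.card (gen (sig R) 2) :=
  low_gen (l := 8) (lv := lv) ok (by norm_num) (by decide +kernel) (by decide +kernel)

def I0 : List Ins :=
  [Ins.stab 2 [1, 0] [0, 1] (nat_lit 0x202)]

theorem ins0 : InsOK 2 1 5 T Y 2 I0 :=
  InsOK.of 9 (show lall (insOK (nat_lit 2) (nat_lit 1) (nat_lit 9) (nat_lit 5) T Y (nat_lit 2)) I0 = true by decide +kernel)

def I : List Ins := I0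

def K : List Nat :=
  []

def O : List Nat :=
  []

def U : List Nat :=
  [nat_lit 0x101,
   nat_lit 0x301]

def C : List (List Nat) :=
  [[nat_lit 0x0],
  [nat_lit 0x101,
   nat_lit 0x0]]

theorem ord : ordsOK 3 (Nat.succ 2) 3 5 (insL I) K [] O = true :=
  show ordsOK (nat_lit 3) (Nat.succ (nat_lit 2)) (nat_lit 3) (nat_lit 5) (insL I) K [] O = true by decide +kernel

theorem tgt0 : TgtOK 3 5 T 3 8 (K ++ insL I) U C 0 2 :=
  TgtOK.of 6 2 rfl (show tgtRows (nat_lit 3) (nat_lit 6) (nat_lit 5) T (nat_lit 3) (nat_lit 8) (K ++ insL I) U C (nat_lit 0) (nat_lit 2) = true by decide +kernel)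

theorem gen : PGen Cfsg.Agent.SchurG.HS.G 3 [] :=
  haveI := Cfsg.Agent.Schur.HS.card.1
  pgen_net Cfsg.Agent.SchurG.HS.card.2.2 allIn Cfsg.Agent.Schur.HS.card.2 (by norm_num) rfl eqs low (by norm_num) (by decide +kernel) (E := 0) (I := I)
    (ins0) ord (a := 1) tgt0 (by decide +kernel)

end P3

end Cfsg.Agent.Schur.HS
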