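import Cfsg.Agent.Schur.HS.Base

set_option autoImplicit false
set_option maxRecDepth 100000

namespace Cfsg.Agent.Schur.HS
open Cfsg.Agent.Comp Cfsg.Agent.Schur

namespace P5

noncomputable def x0 : Net :=
(Net.cons (nat_lit 0x8deee2d07dfec15c174170) (nat_lit 88)
(Net.cons (nat_lit 0xd62f6c3454200000000000b3cc2584690) (nat_lit 44)
(Net.cons (nat_lit 0x21f40000002968c0000000fc1180000012d182) (nat_lit 22)
(Net.cons (nat_lit 0x1da0002200002b8006b2001068001500018a8002cc) (nat_lit 11)
(Net.cons (nat_lit 0x20200601402003c080180100180b00a0200680a000) (nat_lit 6)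
(Net.cons (nat_lit 0x188218000c0180008230040841100000600010040000) (nat_lit 3)
(Net.cons (nat_lit 0x8210000809080100000010020200084008200020008) (nat_lit 1)
(Net.cons (nat_lit 0x10420849092104200410821242484909010424040092) (nat_lit 1)
(Net.cons (nat_lit 0x482905008490020202080840280500a0809010524208) (nat_lit 1)
(Net.cons (nat_lit 0x84004608c208c1142000100021860002100004208c2) (nat_lit 3)
(Net.cons (nat_lit 0x380180801c0060580401e01001c0201803a0580d802) (nat_lit 6)
(Net.cons (nat_lit 0x13700074a001bf80076c00034400188001ecc00330) (nat_lit 11)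
(Net.cons (nat_lit 0x3b6c290000020e21700000183a13000002d876a) (nat_lit 22)
(Net.cons (nat_lit 0x1a66930af8e00000000000af38a63e2e6) (nat_lit 44)
(Net.cons (nat_lit 0xfd3011316f6dab758b1a60) (nat_lit 88)
Net.nil)))))))))))))))

noncomputable def x1 : Net :=
(Net.cons (nat_lit 0xed6388fb5bc6452a98bd08) (nat_lit 88)
(Net.cons (nat_lit 0x62a14d5ca2600000000000bd332a994e8) (nat_lit 44)
(Net.cons (nat_lit 0xc780c000003e140c000001a4f9c0000036c550) (nat_lit 22)
(Net.cons (nat_lit 0x13a00028a000ec000750001348003c80018000046e) (nat_lit 11)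
(Net.cons (nat_lit 0x100200500400e034080050080300681501406805811) (nat_lit 6)
(Net.cons (nat_lit 0x10c300200460002100300408020842084000000200c0) (nat_lit 3)
(Net.cons (nat_lit 0x9012004840002024040010920042480801202400840) (nat_lit 1)
(Net.cons (nat_lit 0x12424049090024248480121242484901212404841090) (nat_lit 1)
(Net.cons (nat_lit 0x1002500a4100012004a014100240404801092420001) (nat_lit 1)
(Net.cons (nat_lit 0x10000c4280010e2084188508c10c4304000810043845) (nat_lit 3)
(Net.cons (nat_lit 0x240240281d028064090110340340880803c0700c817) (nat_lit 6)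
(Net.cons (nat_lit 0x1cc00051a0016c400136001dac002b0001060005e0) (nat_lit 11)
(Net.cons (nat_lit 0x1a6d4c000000da0ca0000033059c0000012a0ea) (nat_lit 22)
(Net.cons (nat_lit 0x51ef9a2f46000000000005628a20a4be) (nat_lit 44)
(Net.cons (nat_lit 0xc79e4319040d9f9514e818) (nat_lit 88)
Net.nil)))))))))))))))

noncomputable def x2 : Net :=
(Net.cons (nat_lit 0xc34db88d1878448e70d34) (nat_lit 88)
(Net.cons (nat_lit 0x49229e107fc0000000000007b9821a4a4) (nat_lit 44)
(Net.cons (nat_lit 0x3b29fe00000232450000000f40060000025a2cc) (nat_lit 22)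
(Net.cons (nat_lit 0xc000076a000ba000750000438004f00004f000308) (nat_lit 11)
(Net.cons (nat_lit 0x280100881d02a0300c00900203c0000a0180440d00b) (nat_lit 6)
(Net.cons (nat_lit 0x1822004080110620c40082106004218000040080) (nat_lit 3)
(Net.cons (nat_lit 0x2020801000104040400900000400808210004000) (nat_lit 1)
(Net.cons (nat_lit 0x4041012120208480821202084909210424849082) (nat_lit 1)
(Net.cons (nat_lit 0x82500a480801242400149080020a0948082000200) (nat_lit 1)
(Net.cons (nat_lit 0x8c1142284208e11463000186318030c300410863085) (nat_lit 3)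
(Net.cons (nat_lit 0x220400001700602c0301d03e048060180180100a003) (nat_lit 6)
(Net.cons (nat_lit 0x680005ef0008b400267001cf00006300077400602) (nat_lit 11)
(Net.cons (nat_lit 0x3cfae700000014d260000027614b0000022161e) (nat_lit 22)
(Net.cons (nat_lit 0xd39944f315600000000000d2bb422b8c0) (nat_lit 44)
(Net.cons (nat_lit 0xe8e8dd96d3474ebe514f4c) (nat_lit 88)
Net.nil)))))))))))))))

noncomputable def x3 : Net :=
(Net.cons (nat_lit 0xd9c25e6d84daf3ba00c9d0) (nat_lit 88)
(Net.cons (nat_lit 0xb6ffe1e611c000000000001b89a1622c6) (nat_lit 44)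
(Net.cons (nat_lit 0x3b5ac40000019484000000250a300000001669e) (nat_lit 22)
(Net.cons (nat_lit 0xa10006440017f0005ae000f100038a001080005f0) (nat_lit 11)
(Net.cons (nat_lit 0x180300b00400204c0601200a0180300c02004001008) (nat_lit 6)
(Net.cons (nat_lit 0x8400001044184108230401882002000418810021000) (nat_lit 3)
(Net.cons (nat_lit 0x8200000840002020208000020002484008202024008) (nat_lit 1)
(Net.cons (nat_lit 0x10404009090124248410801242404908210424849012) (nat_lit 1)
(Net.cons (nat_lit 0x480800040080908252004809012000a0101082524840) (nat_lit 1)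
(Net.cons (nat_lit 0x43180180008c21c218870820042180700811022840) (nat_lit 3)
(Net.cons (nat_lit 0x740e814012024058150140200a80b00206008000) (nat_lit 6)
(Net.cons (nat_lit 0xa3c004b600068c002e5001880004360009a40006c) (nat_lit 11)
(Net.cons (nat_lit 0x1f99390000014b3a5000000b85000000038e894) (nat_lit 22)
(Net.cons (nat_lit 0xd00983bede60000000000059e33fadb80) (nat_lit 44)
(Net.cons (nat_lit 0x4976c779339096e1b3147e) (nat_lit 88)
Net.nil)))))))))))))))

noncomputable def R0 : List Net := [x0, x1, x2, x3]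

noncomputable def R : List Net := R0 ++ Cfsg.Agent.SchurG.HS.T

theorem ok : TOK 176 R := tok_append (TOK_of_ok (by decide +kernel)) Cfsg.Agent.SchurG.HS.ok

def D : List (List Nat × List Nat) :=
  [([0], [9, 6, 8, 9, 4, 8, 9, 8, 7, 8, 5, 4, 7, 4, 5, 6, 4, 5, 4]),
   ([1], [5, 8, 9, 6, 5, 8, 6, 5, 4, 7, 4, 5, 4]),
   ([3], [8, 5, 8, 9, 5, 8, 9, 8, 7, 8, 6, 5, 4, 7, 4])]

theorem defs : ∀ e ∈ D, ev (sig R) e.1 = ev (sig R) e.2 :=
  eq_of_eqsP ok (by norm_num) (show eqsP (nat_lit 176) (nat_lit 8) (nat_lit 0) (nat_lit 8) R D = true by decide +kernel)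

def T : List (List (List Nat)) :=
  [[[]],
   [[1, 2], []],
   [[2], [2], []]]

def Y : List (Nat × List Nat × List Nat) :=
  [(3, [0], [0, 0, 1, 1, 1, 1, 2, 2, 2]),
   (3, [1], [1, 1, 1]),
   (3, [2], [2])]

theorem eqs : ∀ e ∈ (pcEqs 5 3 T ++ stEqs Y), ev (sig R) e.1 = ev (sig R) e.2 :=
  eq_of_eqsP ok (by norm_num) (show eqsP (nat_lit 176) (nat_lit 8) (nat_lit 0) (nat_lit 8) R (pcEqs 5 3 T ++ stEqs Y) = true by decide +kernel)

def D2 : List (List Nat × List Nat) :=
  [([0, 1, 2], [1, 0])]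

theorem allIn : AllIn Cfsg.Agent.SchurG.HS.phi.range R :=
  AllIn.ext Cfsg.Agent.Schur.HS.allIn (o := 4) rfl (eqs_append defs (eqs_swap (D := D2) eqs (by decide +kernel))) (by decide +kernel)

def lv : List (List (List Nat) × List Nat × Nat × Nat) :=
  [([[0], [1, 2, 2, 2, 2]], [0, 0, 2, 0, 2, 0, 0, 0, 0], 3, 25),
   ([[1]], [0, 0, 0, 0], 139, 5)]

theorem low : 5 ^ 3 ≤ Nat.card (gen (sig R) 3) :=
  low_gen (l := 8) (lv := lv) ok (by norm_num) (by decide +kernel) (by decide +kernel)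

def I0 : List Ins :=
  [Ins.cons (nat_lit 0x2) (nat_lit 1) (nat_lit 0x1041041) (nat_lit 0x604),
   Ins.stab 3 [2, 1] [1, 2] (nat_lit 0x503),
   Ins.stab 3 [2, 0] [0, 2] (nat_lit 0x50100404)]

theorem ins0 : InsOK 3 3 9 T Y 4 I0 :=
  InsOK.of 10 (show lall (insOK (nat_lit 3) (nat_lit 3) (nat_lit 10) (nat_lit 9) T Y (nat_lit 4)) I0 = true by decide +kernel)

def I : List Ins := I0

def K : List Nat :=
  []

def O : List Nat :=
  []

def U : List Nat :=
  [nat_lit 0x101,
   nat_lit 0x301,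
   nat_lit 0x214]

def C : List (List Nat) :=
  [[nat_lit 0x0],
  [nat_lit 0x0,
   nat_lit 0x0],
  [nat_lit 0x30100203,
   nat_lit 0x203,
   nat_lit 0x101]]

theorem ord : ordsOK 5 (Nat.succ 4) 3 9 (insL I) K [] O = true :=
  show ordsOK (nat_lit 5) (Nat.succ (nat_lit 4)) (nat_lit 3) (nat_lit 9) (insL I) K [] O = true by decide +kernel

theorem tgt0 : TgtOK 5 9 T 5 24 (K ++ insL I) U C 0 3 :=
  TgtOK.of 13 3 rfl (show tgtRows (nat_lit 5) (nat_lit 13) (nat_lit 9) T (nat_lit 5) (nat_lit 24) (K ++ insL I) U C (nat_lit 0) (nat_lit 3) = true by decide +kernel)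

theorem gen : PGen Cfsg.Agent.SchurG.HS.G 5 [] :=
  haveI := Cfsg.Agent.Schur.HS.card.1
  pgen_net Cfsg.Agent.SchurG.HS.card.2.2 allIn Cfsg.Agent.Schur.HS.card.2 (by norm_num) rfl eqs low (by norm_num) (by decide +kernel) (E := 0) (I := I)
    (ins0) ord (a := 1) tgt0 (by decide +kernel)

end P5

end Cfsg.Agent.Schur.HS
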